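import Groth.Agent.EtSubmersive.ZeroLocus

/-!
# Sections of an inverse image along a morphism with connected geometric fibres

If every base change of `f` is a quotient map and the geometric fibres are connected, then pulling
back global sections is bijective.
-/

set_option autoImplicit false

universe u

open CategoryTheory CategoryTheory.Limits AlgebraicGeometry Opposite TopologicalSpace

noncomputable section

namespace Groth.Agent.EtSubmersive

open Groth.Agent.EtaleSite Groth.Agent.EtConsAb Groth.Agent.EtUnitConst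

variable {X S : Scheme.{u}} (f : X ⟶ S)

theorem exists_algClosed_point {X : Scheme.{u}} (x : X) :
    ∃ (Ω : Type u) (_ : Field Ω) (_ : IsAlgClosed Ω) (η : Spec (CommRingCat.of Ω) ⟶ X),
      η (default : Spec (CommRingCat.of Ω)) = x :=
  ⟨AlgebraicClosure (SeparableClosure (X.residueField x)), inferInstance, inferInstance,
    Spec.map (CommRingCat.ofHom (algebraMap (SeparableClosure (X.residueField x)) _)) ≫ geomPointAt X x,
    geomPointAt_apply X x _⟩

theorem surjective_of_fibres (hc : ∀ (Ω : Type u) [Field Ω] [IsAlgClosed Ω]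
    (s : Spec (CommRingCat.of Ω) ⟶ S), ConnectedSpace ↥(pullback f s)) : Surjective f := by
  refine ⟨fun s => ?_⟩
  obtain ⟨Ω, _, _, η, rfl⟩ := exists_algClosed_point s
  have := hc Ω η
  obtain ⟨c⟩ : Nonempty ↥(pullback f η) := inferInstance
  exact ⟨pullback.fst f η c, (congrArg (fun k : pullback f η ⟶ S => k c) pullback.condition).trans
    (congrArg η (Subsingleton.elim (α := Spec (CommRingCat.of Ω)) _ _))⟩

theorem injective_pullSect [Surjective f] (F : EtCoh.Ab S) (V : S.Etale) :
    Function.Injective (pullSect f F V) := by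
  intro s t h
  refine sect_ext_of_surjective f s t fun Ω _ _ ζ φ =>
    (ConcreteCategory.bijective_of_isIso ((stalkPullIso f ζ).inv.app F)).1 ?_
  rw [← germ_pullSect, ← germ_pullSect, h]

/-- Points of an étale scheme over a separably closed field are open. -/
theorem isOpen_singleton {R : Scheme.{u}} {Ω : Type u} [Field Ω] [IsSepClosed Ω]
    (p : R ⟶ Spec (CommRingCat.of Ω)) [Etale p] (r : R) : IsOpen ({r} : Set R) := by
  obtain ⟨l, h₁, h₂⟩ := Scheme.exists_fac_of_etale_of_isSepClosed p (𝟙 _) r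
    (Subsingleton.elim (α := Spec (CommRingCat.of Ω)) _ _)
  have := isOpenImmersion_of_section p l h₁
  have e : Set.range l = {r} := Set.eq_singleton_iff_unique_mem.2
    ⟨⟨default, h₂⟩, by rintro _ ⟨a, rfl⟩; rw [Subsingleton.elim a default, h₂]⟩
  exact e ▸ l.isOpenEmbedding.isOpen_range

/-- Over a separably closed field, a condition that is locally pulled back from an étale scheme is
locally constant. -/
theorem exists_nhd_const {C P R E : Scheme.{u}} {Ω : Type u} [Field Ω] [IsSepClosed Ω]
    (p : C ⟶ P) (a : E ⟶ P) [Etale a] (g : pullback p a ⟶ R) (q : R ⟶ Spec (CommRingCat.of Ω))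
    [Etale q] (Z : Set P) (O : Set R) (h : ∀ t, a (pullback.snd p a t) ∈ Z ↔ g t ∈ O)
    (c : C) (x : E) (hcx : p c = a x) :
    ∃ N : Set C, IsOpen N ∧ c ∈ N ∧ ∀ c' ∈ N, (p c' ∈ Z ↔ p c ∈ Z) := by
  obtain ⟨t, ht, -⟩ := Scheme.Pullback.exists_preimage_pullback (f := p) (g := a) c x hcx
  have : Etale (pullback.fst p a) := MorphismProperty.pullback_fst _ _ inferInstance
  have hiff : ∀ t', p (pullback.fst p a t') ∈ Z ↔ g t' ∈ O := fun t' => by
    rw [show p (pullback.fst p a t') = a (pullback.snd p a t') from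
      congrArg (fun m : pullback p a ⟶ P => m t') pullback.condition]
    exact h t'
  refine ⟨pullback.fst p a '' (g ⁻¹' {g t}), (pullback.fst p a).isOpenMap _
    ((isOpen_singleton q _).preimage g.continuous), ⟨t, rfl, ht⟩, ?_⟩
  rintro _ ⟨t', ht', rfl⟩
  rw [hiff, Set.mem_singleton_iff.1 ht', ← hiff, ht]

/-- The geometric fibres of a base change of `f` are connected. -/
theorem connectedSpace_fibre {V : Scheme.{u}} (h : V ⟶ S) {Ω : Type u} [Field Ω]
    (η : Spec (CommRingCat.of Ω) ⟶ V) (hc : ConnectedSpace ↥(pullback f (η ≫ h))) :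
    ConnectedSpace ↥(pullback (pullback.fst h f) η) :=
  (((IsPullback.of_hasPullback (pullback.fst h f) η).flip.paste_vert
    (IsPullback.of_hasPullback h f)).flip.isoPullback.hom.homeomorph.connectedSpace_iff).2 hc

/-- A section of an inverse image vanishes on a union of connected components of each geometric
fibre. -/
theorem zloc_isClopen_fibre (F : EtCoh.Ab S) (V : S.Etale)
    (δ : ((EtCoh.pull f).obj F).obj.obj (op ((EtCoh.bc f).obj V)))
    {Ω : Type u} [Field Ω] [IsSepClosed Ω] (η : Spec (CommRingCat.of Ω) ⟶ V.left) :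
    IsClopen ((pullback.fst (pullback.fst V.hom f) η : pullback (pullback.fst V.hom f) η ⟶
        ((EtCoh.bc f).obj V).left) ⁻¹'
      (zloc ((EtCoh.pull f).obj F) _ δ : Set ((EtCoh.bc f).obj V).left)) := by
  set Z := zloc ((EtCoh.pull f).obj F) _ δ
  let π : ((EtCoh.bc f).obj V).left ⟶ V.left := pullback.fst V.hom f
  let p : pullback π η ⟶ ((EtCoh.bc f).obj V).left := pullback.fst π η
  refine ⟨⟨isOpen_iff_forall_mem_open.2 fun c hc => ?_⟩, Z.isOpen.preimage p.continuous⟩
  obtain ⟨W, e, O, D, d, hd, hzd, hD⟩ := exists_zloc_local f F V δ (p c)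
  have := etale_left ((EtCoh.bc f).map e)
  have := etale_left e
  let a : (D : Scheme.{u}) ⟶ ((EtCoh.bc f).obj V).left := D.ι ≫ ((EtCoh.bc f).map e).left
  have : Etale a := inferInstanceAs (Etale (D.ι ≫ ((EtCoh.bc f).map e).left))
  let k : (D : Scheme.{u}) ⟶ W.left := D.ι ≫ pullback.fst W.hom f
  have hk : a ≫ π = k ≫ e.left :=
    (Category.assoc _ _ _).trans ((congrArg (D.ι ≫ ·) (EtCoh.isPullback_bc_map f e).w).trans
      (Category.assoc _ _ _).symm)
  let g : pullback p a ⟶ pullback e.left η := pullback.lift (pullback.snd p a ≫ k)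
    (pullback.fst p a ≫ pullback.snd π η)
    ((Category.assoc _ _ _).trans ((congrArg (pullback.snd p a ≫ ·) hk.symm).trans
      ((pullback.condition_assoc π).symm.trans ((congrArg (pullback.fst p a ≫ ·)
        pullback.condition).trans (Category.assoc _ _ _).symm))))
  have : Etale (pullback.snd e.left η) := MorphismProperty.pullback_snd _ _ inferInstance
  obtain ⟨N, hN, hcN, hN'⟩ := exists_nhd_const p a g (pullback.snd e.left η) (Z : Set _)
    (pullback.fst e.left η ⁻¹' (O : Set W.left)) (fun t => (hD (pullback.snd p a t).1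
      (pullback.snd p a t).2).trans (Iff.of_eq (congrArg (· ∈ O)
        (congrArg (fun m : pullback p a ⟶ W.left => m t) (show g ≫ pullback.fst e.left η =
          pullback.snd p a ≫ k from pullback.lift_fst _ _ _)).symm)))
    c ⟨d, hd⟩ hzd.symm
  exact ⟨N, fun c' hc' h' => hc ((hN' c' hc').1 h'), hN, hcN⟩

variable (hc : ∀ (Ω : Type u) [Field Ω] [IsAlgClosed Ω]
    (s : Spec (CommRingCat.of Ω) ⟶ S), ConnectedSpace ↥(pullback f s))

include hc in
/-- The zero locus of a section of an inverse image is a union of fibres. -/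
theorem zloc_saturated (F : EtCoh.Ab S) (V : S.Etale)
    (δ : ((EtCoh.pull f).obj F).obj.obj (op ((EtCoh.bc f).obj V)))
    (z₁ z₂ : ((EtCoh.bc f).obj V).left)
    (h : (pullback.fst V.hom f : ((EtCoh.bc f).obj V).left ⟶ V.left) z₁ =
      (pullback.fst V.hom f : ((EtCoh.bc f).obj V).left ⟶ V.left) z₂)
    (hz : z₁ ∈ zloc ((EtCoh.pull f).obj F) _ δ) : z₂ ∈ zloc ((EtCoh.pull f).obj F) _ δ := by
  set Z := zloc ((EtCoh.pull f).obj F) _ δ
  let π : ((EtCoh.bc f).obj V).left ⟶ V.left := pullback.fst V.hom f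
  let v : V.left := π z₁
  obtain ⟨Ω, _, _, η, hη⟩ := exists_algClosed_point v
  have : ConnectedSpace ↥(pullback (pullback.fst V.hom f) η) := connectedSpace_fibre f V.hom η (hc Ω _)
  obtain ⟨c₁, hc₁, -⟩ := Scheme.Pullback.exists_preimage_pullback (f := π) (g := η) z₁ default hη.symm
  obtain ⟨c₂, hc₂, -⟩ := Scheme.Pullback.exists_preimage_pullback (f := π) (g := η) z₂ default
    (h.symm.trans hη.symm)
  have hu := (zloc_isClopen_fibre f F V δ η).eq_univ
    ⟨c₁, show pullback.fst π η c₁ ∈ Z from hc₁ ▸ hz⟩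
  exact hc₂ ▸ (Set.eq_univ_iff_forall.1 hu c₂ : pullback.fst π η c₂ ∈ Z)

variable (hsub : ∀ (S' : Scheme.{u}) (g : S' ⟶ S), Topology.IsQuotientMap (pullback.snd f g).base)

include hsub hc in
/-- Locally on `S`, a section of the inverse image comes from below. -/
theorem exists_local_descent (F : EtCoh.Ab S) (U : S.Etale)
    (τ : ((EtCoh.pull f).obj F).obj.obj (op ((EtCoh.bc f).obj U))) (u : U.left) :
    ∃ (W : S.Etale) (k : W ⟶ U) (σ : F.obj.obj (op W)) (w : W.left), k.left w = u ∧
      pullSect f F W σ = ((EtCoh.pull f).obj F).obj.map ((EtCoh.bc f).map k).op τ := by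
  let G := (EtCoh.pull f).obj F
  have := surjective_of_fibres f hc
  obtain ⟨x, hx⟩ := f.surjective (U.hom u)
  obtain ⟨z, hz₁, -⟩ := Scheme.Pullback.exists_preimage_pullback (f := U.hom) (g := f) u x hx.symm
  obtain ⟨V, e, s, D, d, hd, hdz, he⟩ := exists_pullSect_nhd f F U τ z
  let δ := pullSect f F V s - G.obj.map ((EtCoh.bc f).map e).op τ
  let π : ((EtCoh.bc f).obj V).left ⟶ V.left := pullback.fst V.hom f
  let Z := zloc G _ δ
  have hdZ : d ∈ Z := ⟨D, hd, (map_sub _ _ _).trans (sub_eq_zero.2 he)⟩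
  have hpre : π ⁻¹' (π '' (Z : Set ((EtCoh.bc f).obj V).left)) = Z := by
    refine Set.Subset.antisymm ?_ (Set.subset_preimage_image _ _)
    rintro y ⟨y', hy', e'⟩
    exact zloc_saturated f hc F V δ y' y e' hy'
  have hA : IsOpen (π '' (Z : Set ((EtCoh.bc f).obj V).left)) := by
    refine (hsub _ V.hom).isOpen_preimage.1 ?_
    have e' : (pullback.snd f V.hom) ⁻¹' (π '' (Z : Set ((EtCoh.bc f).obj V).left)) =
        (pullbackSymmetry f V.hom).hom ⁻¹' (Z : Set ((EtCoh.bc f).obj V).left) := by
      conv_rhs => rw [← hpre]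
      rw [← pullbackSymmetry_hom_comp_fst f V.hom]
      rfl
    exact e' ▸ Z.isOpen.preimage (pullbackSymmetry f V.hom).hom.continuous
  let A : V.left.Opens := ⟨_, hA⟩
  let k : piece V A ⟶ U := pieceHom V A ≫ e
  refine ⟨piece V A, k, F.obj.map (pieceHom V A).op s, ⟨π d, Set.mem_image_of_mem _ hdZ⟩, ?_, ?_⟩
  · show e.left (π d) = u
    refine ((congrArg (fun m : ((EtCoh.bc f).obj V).left ⟶ U.left => m d)
      (EtCoh.isPullback_bc_map f e).w).symm.trans ?_)
    show pullback.fst U.hom f (((EtCoh.bc f).map e).left d) = u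
    rw [hdz, hz₁]
  · refine sub_eq_zero.1 (eq_zero_of_zloc G _ fun y => ?_)
    have hδ : pullSect f F (piece V A) (F.obj.map (pieceHom V A).op s) -
        G.obj.map ((EtCoh.bc f).map k).op τ = G.obj.map ((EtCoh.bc f).map (pieceHom V A)).op δ := by
      rw [map_sub, pullSect_res, res_res G _ _ ((EtCoh.bc f).map_comp (pieceHom V A) e).symm τ]
    rw [hδ, zloc_res]
    refine (Set.ext_iff.1 hpre _).1 ?_
    show π (((EtCoh.bc f).map (pieceHom V A)).left y) ∈ π '' (Z : Set ((EtCoh.bc f).obj V).left)
    refine Eq.mpr (congrArg (· ∈ π '' (Z : Set ((EtCoh.bc f).obj V).left))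
      (congrArg (fun m : ((EtCoh.bc f).obj (piece V A)).left ⟶ V.left => m y)
        (EtCoh.isPullback_bc_map f (pieceHom V A)).w)) ?_
    exact (pullback.fst (piece V A).hom f y).2

include hsub hc in
/-- Pulling back sections is bijective. -/
theorem bijective_pullSect (F : EtCoh.Ab S) (U : S.Etale) :
    Function.Bijective (pullSect f F U) := by
  have := surjective_of_fibres f hc
  refine ⟨injective_pullSect f F U, fun τ => ?_⟩
  choose W k σ w hw hσ using exists_local_descent f hc hsub F U τ
  let G := (EtCoh.pull f).obj F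
  have hmem : Sieve.generate (Presieve.ofArrows W k) ∈ S.smallEtaleTopology U :=
    mem_topology_of_forall_exists _ fun u =>
      ⟨W u, k u, w u, Sieve.le_generate _ _ _ (Presieve.ofArrows.mk u), hw u⟩
  have hP : (Presieve.ofArrows W k).IsSheafFor (F.obj ⋙ forget AddCommGrpCat.{u + 1}) := by
    rw [Presieve.isSheafFor_iff_generate]
    exact isSheaf_forget F _ hmem
  rw [Presieve.isSheafFor_arrows_iff] at hP
  obtain ⟨t, ht, -⟩ := hP σ fun a b Z ga gb h => by
    show F.obj.map ga.op (σ a) = F.obj.map gb.op (σ b)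
    refine injective_pullSect f F Z ?_
    rw [pullSect_res, pullSect_res, hσ, hσ,
      res_res G _ _ ((EtCoh.bc f).map_comp ga (k a)).symm τ,
      res_res G _ _ ((EtCoh.bc f).map_comp gb (k b)).symm τ, h]
  refine ⟨t, sub_eq_zero.1 (eq_zero_of_zloc G _ fun y => ?_)⟩
  let u : U.left := (pullback.fst U.hom f : ((EtCoh.bc f).obj U).left ⟶ U.left) y
  obtain ⟨y', hy', -⟩ := exists_preimage_bc y (w u) (hw u).symm
  rw [← hy', ← zloc_res, map_sub, ← pullSect_res]
  erw [ht u]
  rw [hσ, sub_self]
  obtain ⟨Ω, _, _, ζ, φ, hφ⟩ := exists_point ((EtCoh.bc f).obj (W u)) y'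
  exact hφ ▸ (mem_zloc_iff G 0 _ φ).2 (map_zero _)
where
  exists_preimage_bc {U W : S.Etale} {k : W ⟶ U} (y : ((EtCoh.bc f).obj U).left) (w : W.left)
      (h : (pullback.fst U.hom f : ((EtCoh.bc f).obj U).left ⟶ U.left) y = k.left w) :
      ∃ y' : ((EtCoh.bc f).obj W).left, ((EtCoh.bc f).map k).left y' = y ∧ True := by
    obtain ⟨y', h₁, -⟩ := Scheme.exists_preimage_of_isPullback (EtCoh.isPullback_bc_map f k) y w h
    exact ⟨y', h₁, trivial⟩

/-- Every base change of a flat quasi-compact surjection is a quotient map. -/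
theorem isQuotientMap_of_flat [Flat f] [QuasiCompact f] [Surjective f] (S' : Scheme.{u}) (g : S' ⟶ S) :
    Topology.IsQuotientMap (pullback.snd f g).base := by
  have : Flat (pullback.snd f g) := MorphismProperty.pullback_snd _ _ inferInstance
  have : QuasiCompact (pullback.snd f g) := MorphismProperty.pullback_snd _ _ inferInstance
  have : Surjective (pullback.snd f g) := MorphismProperty.pullback_snd _ _ inferInstance
  exact Flat.isQuotientMap_of_surjective _

/-- Flat quasi-compact morphisms with connected geometric fibres. -/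
theorem bijective_pullSect_of_flat [Flat f] [QuasiCompact f]
    (hc : ∀ (Ω : Type u) [Field Ω] [IsAlgClosed Ω]
      (s : Spec (CommRingCat.of Ω) ⟶ S), ConnectedSpace ↥(pullback f s))
    (F : EtCoh.Ab S) (U : S.Etale) : Function.Bijective (pullSect f F U) :=
  have := surjective_of_fibres f hc
  bijective_pullSect f hc (isQuotientMap_of_flat f) F U

end Groth.Agent.EtSubmersive
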