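import Groth.Agent.EtSubmersive.PushStalk
import Groth.Agent.EtSubmersive.Main
import Groth.Agent.EtaleSite.FiniteBC

/-!
# Base change along flat morphisms whose strict localisations have connected geometric fibres
-/

set_option autoImplicit false
set_option backward.isDefEq.respectTransparency false

universe u

open CategoryTheory CategoryTheory.Limits AlgebraicGeometry Opposite

noncomputable section

namespace Groth.Agent.EtSubmersive

open Groth.Agent.EtaleSite Groth.Agent.EtLimit Groth.Agent.EtLimit.FHom Groth.Agent.EtConsAb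

theorem exists_stalkSect_of_eq {R : Type u} [CommRing R] [HenselianLocalRing R]
    [IsSepClosed (IsLocalRing.ResidueField R)] {Ω : Type u} [Field Ω] [IsSepClosed Ω]
    (ρ : Spec (CommRingCat.of Ω) ⟶ Spec (CommRingCat.of (IsLocalRing.ResidueField R)))
    {S : Scheme.{u}} (σ : Spec (CommRingCat.of R) ⟶ S) (P : EtPres σ)
    {X : Scheme.{u}} (k : X ⟶ S) [QuasiCompact k] [QuasiSeparated k] (F : EtCoh.Ab X)
    (η : Spec (CommRingCat.of Ω) ⟶ S) (hη : η = overClosed ρ ≫ σ) :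
    ∃ Φ : ↑((EtCoh.stalk η).obj ((EtCoh.push k).obj F)) →
        EtCoh.sect ((EtCoh.pull (pullback.fst k σ)).obj F) (EtCoh.top (pullback k σ)),
      Function.Bijective Φ ∧
      (∀ (U : S.Etale) (w : Spec (CommRingCat.of R) ⟶ U.left)
        (hw : w ≫ U.hom = (EtCoh.top (Spec (CommRingCat.of R))).hom ≫ σ)
        (φ : (Scheme.pointSmallEtale η).fiber.obj U),
        φ.left = overClosed ρ ≫ w → ∀ t : F.obj.obj (op ((EtCoh.bc k).obj U)),
        Φ (germ η ((EtCoh.push k).obj F) U φ t) =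
          (unit (pullback.fst k σ) F).app (EtCoh.top (pullback k σ)) ((EtCoh.bc k).obj U)
            (liftBc σ k w hw) (liftBc_hom σ k w hw) t) ∧
      ∀ p : ↑((EtCoh.stalk η).obj ((EtCoh.push k).obj F)),
        ∃ (U : S.Etale) (w : Spec (CommRingCat.of R) ⟶ U.left)
          (_ : w ≫ U.hom = (EtCoh.top (Spec (CommRingCat.of R))).hom ≫ σ)
          (φ : (Scheme.pointSmallEtale η).fiber.obj U) (t : ((EtCoh.push k).obj F).obj.obj (op U)),
          φ.left = overClosed ρ ≫ w ∧ germ η ((EtCoh.push k).obj F) U φ t = p := by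
  subst hη
  obtain ⟨Φ, hΦ, hΦ'⟩ := exists_stalkSect ρ σ P k F
  exact ⟨Φ, hΦ, hΦ', exists_stage_germ ρ σ P _⟩

/-- The unit on global sections, when it is an isomorphism. -/
theorem bijective_unit_top {A B : Scheme.{u}} (q : A ⟶ B) (G : EtCoh.Ab B)
    (hq : Function.Bijective (pullSect q G (EtCoh.top B))) :
    Function.Bijective ((unit q G).app (EtCoh.top A) (EtCoh.top B) q
      ((Category.comp_id q).trans (Category.id_comp q).symm)) := by
  have e : toBc (W := EtCoh.top A) (U := EtCoh.top B) q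
      ((Category.comp_id q).trans (Category.id_comp q).symm) = (EtCore.bcTopIso q).inv :=
    (EtCore.bcTopIsTerminal q).hom_ext _ _
  show Function.Bijective fun x => ((EtCoh.pull q).obj G).obj.map _ (pullSect q G (EtCoh.top B) x)
  rw [e]
  exact (ConcreteCategory.bijective_of_isIso
    (((EtCoh.pull q).obj G).obj.map (EtCore.bcTopIso q).inv.op)).comp hq

/-- Pulling back along two routes gives the same section. -/
theorem κ_unit_eq {A B Y T : Scheme.{u}} (pY : A ⟶ Y) (e : Y ⟶ T) (pT : B ⟶ T) (q : A ⟶ B)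
    (hq : q ≫ pT = pY ≫ e) (F : EtCoh.Ab T) (W : Y.Etale) (U : T.Etale)
    (wz : W.left ⟶ U.left) (hz : wz ≫ U.hom = W.hom ≫ e)
    (lX : (EtCoh.top A).left ⟶ W.left) (hX : lX ≫ W.hom = (EtCoh.top A).hom ≫ pY)
    (lT : (EtCoh.top B).left ⟶ U.left) (hT : lT ≫ U.hom = (EtCoh.top B).hom ≫ pT)
    (he : lX ≫ wz = q ≫ lT) (s : F.obj.obj (op U))
    (y : EtCoh.sect ((EtCoh.pull pY).obj ((EtCoh.pull e).obj F)) (EtCoh.top A))
    (hy : y = (unit pY ((EtCoh.pull e).obj F)).app (EtCoh.top A) W lX hX ((unit e F).app W U wz hz s))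
    (x : EtCoh.sect ((EtCoh.pull pT).obj F) (EtCoh.top B))
    (hx : x = (unit pT F).app (EtCoh.top B) U lT hT s) :
    (κ pY e (rfl : pY ≫ e = pY ≫ e) F).hom.hom.app (op (EtCoh.top A)) y =
      (κ q pT hq F).hom.hom.app (op (EtCoh.top A))
        ((unit q ((EtCoh.pull pT).obj F)).app (EtCoh.top A) (EtCoh.top B) q
          ((Category.comp_id q).trans (Category.id_comp q).symm) x) := by
  subst hy hx
  have hw : (q ≫ lT) ≫ U.hom = (EtCoh.top A).hom ≫ pY ≫ e := by
    rw [Category.assoc, hT]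
    exact (congrArg (q ≫ ·) (Category.id_comp pT)).trans (hq.trans (Category.id_comp _).symm)
  exact (κ_unit_apply pY e rfl F lX hX wz hz (q ≫ lT) hw he s).trans
    (κ_unit_apply q pT hq F (W := EtCoh.top A) (V := EtCoh.top B) (U := U) q
      ((Category.comp_id q).trans (Category.id_comp q).symm) lT hT (q ≫ lT) hw rfl s).symm

theorem bijective_of_routes {A B C D E E' E'' : Type*} (inv : A → B) (β : B → C) (a : C → D)
    (a' : D → E) (b : A → E'') (c : E'' → E') (b' : E' → E) (h₁ : Function.Bijective inv)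
    (h₂ : Function.Bijective a) (h₃ : Function.Bijective a') (h₄ : Function.Bijective b)
    (h₅ : Function.Bijective c) (h₆ : Function.Bijective b')
    (key : ∀ p, a' (a (β (inv p))) = b' (c (b p))) : Function.Bijective β := by
  have hcomp : Function.Bijective ((a' ∘ a) ∘ β ∘ inv) := by
    rw [show (a' ∘ a) ∘ β ∘ inv = b' ∘ c ∘ b from funext key]
    exact h₆.comp (h₅.comp h₄)
  exact (Function.Bijective.of_comp_iff β h₁).1
    ((Function.Bijective.of_comp_iff' (h₃.comp h₂) (β ∘ inv)).1 hcomp)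

/-- A map is bijective when it becomes the pullback of sections along `q`. -/
theorem bijective_of_units {A B Y T : Scheme.{u}} (pY : A ⟶ Y) (e : Y ⟶ T) (pT : B ⟶ T) (q : A ⟶ B)
    (hq : q ≫ pT = pY ≫ e) (F : EtCoh.Ab T)
    (hqb : Function.Bijective (pullSect q ((EtCoh.pull pT).obj F) (EtCoh.top B)))
    {P Q R : Type (u + 1)} (inv : P → Q) (β : Q → R)
    (ΦX : R → EtCoh.sect ((EtCoh.pull pY).obj ((EtCoh.pull e).obj F)) (EtCoh.top A))
    (ΦS : P → EtCoh.sect ((EtCoh.pull pT).obj F) (EtCoh.top B))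
    (hinv : Function.Bijective inv) (hX : Function.Bijective ΦX) (hS : Function.Bijective ΦS)
    (H : ∀ p, ∃ (W : Y.Etale) (U : T.Etale) (wz : W.left ⟶ U.left) (hz : wz ≫ U.hom = W.hom ≫ e)
      (lX : (EtCoh.top A).left ⟶ W.left) (hlX : lX ≫ W.hom = (EtCoh.top A).hom ≫ pY)
      (lT : (EtCoh.top B).left ⟶ U.left) (hlT : lT ≫ U.hom = (EtCoh.top B).hom ≫ pT)
      (s : F.obj.obj (op U)), lX ≫ wz = q ≫ lT ∧
      ΦX (β (inv p)) = (unit pY ((EtCoh.pull e).obj F)).app (EtCoh.top A) W lX hlX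
        ((unit e F).app W U wz hz s) ∧
      ΦS p = (unit pT F).app (EtCoh.top B) U lT hlT s) :
    Function.Bijective β := by
  have hiso : ∀ {G G' : EtCoh.Ab A} (i : G ≅ G'),
      Function.Bijective (i.hom.hom.app (op (EtCoh.top A))) := fun i =>
    ConcreteCategory.bijective_of_isIso (((sheafToPresheaf _ _).mapIso i).app (op (EtCoh.top A))).hom
  refine bijective_of_routes inv β ΦX ((κ pY e (rfl : pY ≫ e = pY ≫ e) F).hom.hom.app _) ΦS
    ((unit q ((EtCoh.pull pT).obj F)).app (EtCoh.top A) (EtCoh.top B) q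
      ((Category.comp_id q).trans (Category.id_comp q).symm))
    ((κ q pT hq F).hom.hom.app _) hinv hX (hiso _) hS (bijective_unit_top q _ hqb) (hiso _) fun p => ?_
  obtain ⟨W, U, wz, hz, lX, hlX, lT, hlT, s, he, h₁, h₂⟩ := H p
  exact κ_unit_eq pY e pT q hq F W U wz hz lX hlX lT hlT he s _ h₁ _ h₂

variable {X S T Y : Scheme.{u}} (g : T ⟶ S) (f : X ⟶ S) (h : Y ⟶ X) (e : Y ⟶ T)

/-- The base change map on the sections over an étale neighbourhood. -/
theorem baseChange0_pullSect (w : e ≫ g = h ≫ f) (F : EtCoh.Ab T) (V : S.Etale)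
    (s : F.obj.obj (op ((EtCoh.bc g).obj V))) :
    ∃ hz, (EtCoh.baseChange0 g f h e w F).hom.app (op ((EtCoh.bc f).obj V))
        (pullSect f ((EtCoh.push g).obj F) V s) =
      (unit e F).app ((EtCoh.bc h).obj ((EtCoh.bc f).obj V)) ((EtCoh.bc g).obj V)
        ((bcSwap g f h e w V).left ≫ bcFst e ((EtCoh.bc g).obj V)) hz s := by
  have hz : ((bcSwap g f h e w V).left ≫ bcFst e ((EtCoh.bc g).obj V)) ≫ ((EtCoh.bc g).obj V).hom =
      ((EtCoh.bc h).obj ((EtCoh.bc f).obj V)).hom ≫ e := by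
    rw [Category.assoc, bcFst_w]
    exact (Category.assoc _ _ _).symm.trans
      (congrArg (· ≫ e) (MorphismProperty.Over.w (bcSwap g f h e w V)))
  refine ⟨hz, ?_⟩
  let m : (EtCoh.push g).obj F ⟶ (EtCoh.push f).obj ((EtCoh.push h).obj ((EtCoh.pull e).obj F)) :=
    (EtCoh.push g).map ((EtCoh.pullPushAdj e).unit.app F) ≫ (EtCoh.pushComp g e).hom.app _ ≫
      (EtCoh.pushCongr w).hom.app _ ≫ (EtCoh.pushComp f h).inv.app _
  have hm : (EtCoh.baseChange0 g f h e w F).hom.app (op ((EtCoh.bc f).obj V))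
      (pullSect f ((EtCoh.push g).obj F) V s) = m.hom.app (op V) s := by
    have e' : (EtCoh.pullPushAdj f).homEquiv _ _ (EtCoh.baseChange0 g f h e w F) = m :=
      Equiv.apply_symm_apply _ _
    rw [← e', Adjunction.homEquiv_unit]
    rfl
  have hm' : m.hom.app (op V) s = ((EtCoh.pull e).obj F).obj.map (bcSwap g f h e w V).op
      (pullSect e F ((EtCoh.bc g).obj V) s) := by
    let t := pullSect e F ((EtCoh.bc g).obj V) s
    refine Eq.trans ?_ (congrArg (fun k => k t) ((((EtCoh.pull e).obj F).obj.map_comp _ _).trans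
      (congrArg (· ≫ _) (((EtCoh.pull e).obj F).obj.map_comp _ _)))).symm
    rfl
  refine (hm.trans hm').trans ?_
  show _ = ((EtCoh.pull e).obj F).obj.map (toBc _ hz).op (pullSect e F ((EtCoh.bc g).obj V) s)
  rw [show toBc _ hz = bcSwap g f h e w V from bc_hom_ext (toBc_fst _ _)]

/-- The two liftings to the base change agree. -/
theorem swap_lift_eq {RS RX : Scheme.{u}} (w₀ : e ≫ g = h ≫ f) (σS : RS ⟶ S) (σX : RX ⟶ X)
    (Ψ : RX ⟶ RS) (q : pullback h σX ⟶ pullback g σS)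
    (hq₁ : q ≫ pullback.fst g σS = pullback.fst h σX ≫ e)
    (hq₂ : q ≫ pullback.snd g σS = pullback.snd h σX ≫ Ψ) (V : S.Etale) (w : RS ⟶ V.left)
    (w' : RX ⟶ ((EtCoh.bc f).obj V).left) (hw' : w' ≫ bcFst f V = Ψ ≫ w)
    (lT : pullback g σS ⟶ ((EtCoh.bc g).obj V).left) (hlT₁ : lT ≫ bcFst g V = pullback.snd g σS ≫ w)
    (hlT₂ : lT ≫ ((EtCoh.bc g).obj V).hom = pullback.fst g σS)
    (lX : pullback h σX ⟶ ((EtCoh.bc h).obj ((EtCoh.bc f).obj V)).left)
    (hlX₁ : lX ≫ bcFst h ((EtCoh.bc f).obj V) = pullback.snd h σX ≫ w')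
    (hlX₂ : lX ≫ ((EtCoh.bc h).obj ((EtCoh.bc f).obj V)).hom = pullback.fst h σX) :
    lX ≫ (bcSwap g f h e w₀ V).left ≫ bcFst e ((EtCoh.bc g).obj V) = q ≫ lT := by
  refine pullback.hom_ext ?_ ?_
  · have e₁ : (bcSwap g f h e w₀ V).left ≫ bcFst e ((EtCoh.bc g).obj V) ≫ bcFst g V =
        bcFst h ((EtCoh.bc f).obj V) ≫ bcFst f V := bcSwap_fst_fst g f h e w₀ V
    show (lX ≫ (bcSwap g f h e w₀ V).left ≫ bcFst e ((EtCoh.bc g).obj V)) ≫ bcFst g V =
      (q ≫ lT) ≫ bcFst g V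
    rw [Category.assoc, Category.assoc, e₁, ← Category.assoc, hlX₁, Category.assoc, hw',
      Category.assoc, hlT₁, ← Category.assoc, ← hq₂, Category.assoc]
  · have e₂ : (bcSwap g f h e w₀ V).left ≫ bcFst e ((EtCoh.bc g).obj V) ≫
        ((EtCoh.bc g).obj V).hom = ((EtCoh.bc h).obj ((EtCoh.bc f).obj V)).hom ≫ e :=
      (congrArg ((bcSwap g f h e w₀ V).left ≫ ·) (bcFst_w e _)).trans
        ((Category.assoc _ _ _).symm.trans (congrArg (· ≫ e) (MorphismProperty.Over.w _)))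
    show (lX ≫ (bcSwap g f h e w₀ V).left ≫ bcFst e ((EtCoh.bc g).obj V)) ≫
      ((EtCoh.bc g).obj V).hom = (q ≫ lT) ≫ ((EtCoh.bc g).obj V).hom
    rw [Category.assoc, Category.assoc, e₂, ← Category.assoc, hlX₂, Category.assoc, hlT₂, hq₁]

/-- The base change map on germs. -/
theorem stalk_baseChange0_germ (w : e ≫ g = h ≫ f) (F : EtCoh.Ab T) {Ω : Type u} [Field Ω] [IsSepClosed Ω]
    (ξ : Spec (CommRingCat.of Ω) ⟶ X) (V : S.Etale)
    (φ : (Scheme.pointSmallEtale (ξ ≫ f)).fiber.obj V) (s : F.obj.obj (op ((EtCoh.bc g).obj V))) :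
    ∃ hz, (EtCoh.stalk ξ).map (EtCoh.baseChange0 g f h e w F)
        ((stalkPullIso f ξ).inv.app ((EtCoh.push g).obj F) (germ (ξ ≫ f) ((EtCoh.push g).obj F) V φ s)) =
      germ ξ ((EtCoh.push h).obj ((EtCoh.pull e).obj F)) ((EtCoh.bc f).obj V) (fiberBcEquiv f ξ V φ)
        ((unit e F).app ((EtCoh.bc h).obj ((EtCoh.bc f).obj V)) ((EtCoh.bc g).obj V)
          ((bcSwap g f h e w V).left ≫ bcFst e ((EtCoh.bc g).obj V)) hz s) := by
  obtain ⟨hz, hz'⟩ := baseChange0_pullSect g f h e w F V s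
  refine ⟨hz, ?_⟩
  refine (congrArg ((EtCoh.stalk ξ).map (EtCoh.baseChange0 g f h e w F))
    (germ_pullSect f ξ ((EtCoh.push g).obj F) V φ s).symm).trans ?_
  exact (germ_naturality ξ _ _ _ _).trans (congrArg _ hz')

variable (hsq : IsPullback e h g f) [QuasiCompact g] [QuasiSeparated g]

include hsq in
/-- The base change map is bijective on the stalk at a strictly local point. -/
theorem bijective_stalk_baseChange0 (F : EtCoh.Ab T) {RS RX : Type u} [CommRing RS] [CommRing RX]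
    [HenselianLocalRing RS] [HenselianLocalRing RX]
    [IsSepClosed (IsLocalRing.ResidueField RS)] [IsSepClosed (IsLocalRing.ResidueField RX)]
    (σS : Spec (CommRingCat.of RS) ⟶ S) (σX : Spec (CommRingCat.of RX) ⟶ X)
    (PS : EtPres σS) (PX : EtPres σX) (ψ : RS →+* RX) [IsLocalHom ψ] (hflat : ψ.Flat)
    (hψ : Spec.map (CommRingCat.ofHom ψ) ≫ σS = σX ≫ f)
    (hc : ∀ (Ω : Type u) [Field Ω] [IsAlgClosed Ω] (η : Spec (CommRingCat.of Ω) ⟶ Spec (CommRingCat.of RS)),
      ConnectedSpace ↥(pullback (Spec.map (CommRingCat.ofHom ψ)) η)) :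
    Function.Bijective ((EtCoh.stalk (overClosed (𝟙 _) ≫ σX)).map
      (EtCoh.baseChange0 g f h e hsq.w F)) := by
  let Ψ := Spec.map (CommRingCat.ofHom ψ)
  let ρ : Spec (CommRingCat.of (IsLocalRing.ResidueField RX)) ⟶
      Spec (CommRingCat.of (IsLocalRing.ResidueField RS)) :=
    Spec.map (CommRingCat.ofHom (IsLocalRing.ResidueField.map ψ))
  have hρ : overClosed ρ = overClosed (𝟙 _) ≫ Ψ := by
    refine Eq.trans ?_ (congrArg (· ≫ Ψ) (Category.id_comp (closedPt RX)).symm)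
    exact (Spec.map_comp _ _).symm.trans ((congrArg Spec.map (CommRingCat.hom_ext
      (RingHom.ext fun r => IsLocalRing.ResidueField.map_residue ψ r))).trans (Spec.map_comp _ _))
  let ξ := overClosed (𝟙 (Spec (CommRingCat.of (IsLocalRing.ResidueField RX)))) ≫ σX
  have hξ : ξ ≫ f = overClosed ρ ≫ σS :=
    (Category.assoc _ _ _).trans ((congrArg (overClosed (𝟙 _) ≫ ·) hψ.symm).trans
      ((Category.assoc _ _ _).symm.trans (congrArg (· ≫ σS) hρ.symm)))
  haveI : QuasiCompact h := MorphismProperty.of_isPullback hsq ‹_›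
  haveI : QuasiSeparated h := MorphismProperty.of_isPullback hsq ‹_›
  obtain ⟨ΦS, hΦS, hΦS', hrep⟩ := exists_stalkSect_of_eq ρ σS PS g F (ξ ≫ f) hξ
  obtain ⟨ΦX, hΦX, hΦX', -⟩ := exists_stalkSect_of_eq (𝟙 _) σX PX h ((EtCoh.pull e).obj F) ξ rfl
  let prT := pullback.fst g σS
  let prY := pullback.fst h σX
  let q : pullback h σX ⟶ pullback g σS := pullback.lift (prY ≫ e) (pullback.snd h σX ≫ Ψ) (by
    rw [Category.assoc, hsq.w, pullback.condition_assoc, Category.assoc, hψ])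
  have hq₁ : q ≫ prT = prY ≫ e := pullback.lift_fst _ _ _
  have hq₂ : q ≫ pullback.snd g σS = pullback.snd h σX ≫ Ψ := pullback.lift_snd _ _ _
  have sq : IsPullback q (pullback.snd h σX) (pullback.snd g σS) Ψ := by
    refine IsPullback.of_right ?_ hq₂ (IsPullback.of_hasPullback g σS)
    rw [hq₁, hψ]
    exact (IsPullback.of_hasPullback h σX).paste_horiz hsq
  have : Flat Ψ := (HasRingHomProperty.Spec_iff (P := @Flat)).2 hflat
  have : Flat q := MorphismProperty.of_isPullback sq.flip ‹_›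
  have : QuasiCompact q := MorphismProperty.of_isPullback sq.flip (inferInstance : QuasiCompact Ψ)
  have hqb := bijective_pullSect_of_flat q (fun Ω _ _ s => by
      have := hc Ω (s ≫ pullback.snd g σS)
      exact (((IsPullback.of_hasPullback q s).flip.paste_vert sq).flip.isoPullback.hom.homeomorph.connectedSpace_iff).2 this)
    ((EtCoh.pull prT).obj F) (EtCoh.top (pullback g σS))
  refine bijective_of_units prY e prT q hq₁ F hqb ((stalkPullIso f ξ).inv.app ((EtCoh.push g).obj F))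
    ((EtCoh.stalk ξ).map (EtCoh.baseChange0 g f h e hsq.w F)) ΦX ΦS
    (ConcreteCategory.bijective_of_isIso _) hΦX hΦS fun p => ?_
  obtain ⟨V, w, hw, φ, s, hφ, rfl⟩ := hrep p
  have hw₁ : (Ψ ≫ w) ≫ V.hom = σX ≫ f :=
    (Category.assoc _ _ _).trans ((congrArg (Ψ ≫ ·) (hw.trans (Category.id_comp σS))).trans hψ)
  let w' : Spec (CommRingCat.of RX) ⟶ ((EtCoh.bc f).obj V).left := pullback.lift (Ψ ≫ w) σX hw₁
  have hw' : w' ≫ ((EtCoh.bc f).obj V).hom = (EtCoh.top (Spec (CommRingCat.of RX))).hom ≫ σX :=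
    (pullback.lift_snd _ _ _).trans (Category.id_comp σX).symm
  have hφ' : (fiberBcEquiv f ξ V φ).left = overClosed (𝟙 _) ≫ w' := by
    refine pullback.hom_ext ?_ ?_
    · refine (pullback.lift_fst _ _ _).trans (Eq.trans ?_ (Category.assoc _ _ _).symm)
      rw [hφ, hρ, Category.assoc]
      exact congrArg (overClosed (𝟙 _) ≫ ·) (pullback.lift_fst _ _ _).symm
    · refine (pullback.lift_snd _ _ _).trans (Eq.trans ?_ (Category.assoc _ _ _).symm)
      exact congrArg (overClosed (𝟙 _) ≫ ·) (pullback.lift_snd _ _ _).symm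
  obtain ⟨hz, hβ⟩ := stalk_baseChange0_germ g f h e hsq.w F ξ V φ s
  exact ⟨(EtCoh.bc h).obj ((EtCoh.bc f).obj V), (EtCoh.bc g).obj V,
    (bcSwap g f h e hsq.w V).left ≫ bcFst e ((EtCoh.bc g).obj V), hz,
    liftBc σX h w' hw', liftBc_hom σX h w' hw', liftBc σS g w hw, liftBc_hom σS g w hw, s,
    swap_lift_eq g f h e hsq.w σS σX Ψ q hq₁ hq₂ V w w' (pullback.lift_fst _ _ _)
      (liftBc σS g w hw) (pullback.lift_fst _ _ _) (pullback.lift_snd _ _ _)
      (liftBc σX h w' hw') (pullback.lift_fst _ _ _) (pullback.lift_snd _ _ _),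
    (congrArg ΦX hβ).trans (hΦX' _ w' hw' (fiberBcEquiv f ξ V φ) hφ' _),
    hΦS' V w hw φ hφ s⟩

include hsq in
/-- Base change holds when it can be tested on strict localisations with connected geometric fibres. -/
theorem isIso_baseChange0 (F : EtCoh.Ab T)
    (H : ∀ x : X, ∃ (RS RX : Type u) (_ : CommRing RS) (_ : CommRing RX) (_ : HenselianLocalRing RS)
      (_ : HenselianLocalRing RX) (_ : IsSepClosed (IsLocalRing.ResidueField RS))
      (_ : IsSepClosed (IsLocalRing.ResidueField RX)) (σS : Spec (CommRingCat.of RS) ⟶ S)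
      (σX : Spec (CommRingCat.of RX) ⟶ X) (_ : EtPres σS) (_ : EtPres σX) (ψ : RS →+* RX)
      (_ : IsLocalHom ψ), ψ.Flat ∧ Spec.map (CommRingCat.ofHom ψ) ≫ σS = σX ≫ f ∧
      σX (IsLocalRing.closedPoint RX) = x ∧
      ∀ (Ω : Type u) [Field Ω] [IsAlgClosed Ω] (η : Spec (CommRingCat.of Ω) ⟶ Spec (CommRingCat.of RS)),
        ConnectedSpace ↥(pullback (Spec.map (CommRingCat.ofHom ψ)) η)) :
    IsIso (EtCoh.baseChange0 g f h e hsq.w F) := by
  refine isIso_of_stalk _ fun Ω _ _ ξ₀ => ?_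
  obtain ⟨RS, RX, _, _, _, _, _, _, σS, σX, PS, PX, ψ, _, hflat, hψ, hx, hc⟩ := H (ξ₀ default)
  let ξ := overClosed (𝟙 (Spec (CommRingCat.of (IsLocalRing.ResidueField RX)))) ≫ σX
  have hξ : ξ (default : Spec (CommRingCat.of (IsLocalRing.ResidueField RX))) = ξ₀ default := by
    rw [← hx]
    refine congrArg σX ?_
    show PrimeSpectrum.comap (IsLocalRing.residue RX) _ = _
    exact (congrArg (PrimeSpectrum.comap (IsLocalRing.residue RX))
      (Subsingleton.elim _ (IsLocalRing.closedPoint (IsLocalRing.ResidueField RX)))).trans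
      (IsLocalRing.comap_closedPoint (IsLocalRing.residue RX))
  obtain ⟨e₀⟩ := nonempty_stalk_iso_geomPointAt ξ₀
  obtain ⟨e₁⟩ := nonempty_stalk_iso_geomPointAt ξ
  refine (NatIso.isIso_map_iff e₀ _).2 ?_
  rw [← hξ]
  exact (NatIso.isIso_map_iff e₁ _).1 ((ConcreteCategory.isIso_iff_bijective _).2
    (bijective_stalk_baseChange0 g f h e hsq F σS σX PS PX ψ hflat hψ hc))

end Groth.Agent.EtSubmersive
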