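import Groth.Agent.EtLimit.BaseChange
import Groth.Agent.EtaleSite.SH
import Groth.Agent.EtaleSite.PushStalk
import Groth.Agent.EtConsAb.PullTriv

/-!
# Stalks of direct images at geometric points over the closed point of a strict localisation

For `σ : Spec R ⟶ S` a strict localisation and `ρ` a field extension of the residue field, the stalk
of `k_* F` at `ρ` is the group of sections of `F` on `X ×_S Spec R`.
-/

set_option autoImplicit false
set_option backward.isDefEq.respectTransparency false

universe u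

open CategoryTheory CategoryTheory.Limits AlgebraicGeometry Opposite

noncomputable section

namespace Groth.Agent.EtSubmersive

open Groth.Agent.EtaleSite Groth.Agent.EtLimit Groth.Agent.EtLimit.FHom Groth.Agent.EtConsAb

variable {R : Type u} [CommRing R] [HenselianLocalRing R]
  [IsSepClosed (IsLocalRing.ResidueField R)] {Ω : Type u} [Field Ω] [IsSepClosed Ω]
  (ρ : Spec (CommRingCat.of Ω) ⟶ Spec (CommRingCat.of (IsLocalRing.ResidueField R)))

/-- The geometric point of `Spec R` over the closed point. -/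
abbrev overClosed : Spec (CommRingCat.of Ω) ⟶ Spec (CommRingCat.of R) := ρ ≫ closedPt R

/-- The point of `top` over it. -/
def overClosedTop : (Scheme.pointSmallEtale (overClosed ρ)).fiber.obj
    (EtCoh.top (Spec (CommRingCat.of R))) :=
  (Over.homMk (overClosed ρ) (Category.comp_id _) :
    Over.mk (overClosed ρ) ⟶ (Scheme.Etale.forget _).obj (EtCoh.top (Spec (CommRingCat.of R))))

theorem exists_from_top' (V : (Spec (CommRingCat.of R)).Etale)
    (y : (Scheme.pointSmallEtale (overClosed ρ)).fiber.obj V) :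
    ∃ s : EtCoh.top (Spec (CommRingCat.of R)) ⟶ V,
      (Scheme.pointSmallEtale (overClosed ρ)).fiber.map s (overClosedTop ρ) = y := by
  obtain ⟨y₀, rfl⟩ := (fiberExtFun_bijective ρ (closedPt R) V).2 y
  obtain ⟨s, rfl⟩ := exists_from_top R V y₀
  exact ⟨s, Over.OverMorphism.ext (Category.assoc _ _ _)⟩

theorem bijective_germ_top' (F : EtCoh.Ab (Spec (CommRingCat.of R))) :
    Function.Bijective (germ (overClosed ρ) F (EtCoh.top (Spec (CommRingCat.of R)))
      (overClosedTop ρ)) := by
  constructor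
  · intro a b h
    obtain ⟨V, g, y, hy, hab⟩ := (germ_eq_iff _ F _ _ a b).1 h
    obtain ⟨s, hs⟩ := exists_from_top' ρ V y
    have e : s ≫ g = 𝟙 _ := (EtCore.topIsTerminal _).hom_ext _ _
    have := congrArg (F.obj.map s.op) hab
    rw [← ConcreteCategory.comp_apply, ← ConcreteCategory.comp_apply, ← Functor.map_comp,
      ← op_comp, e, op_id, CategoryTheory.Functor.map_id] at this
    exact this
  · intro p
    obtain ⟨V, y, t, rfl⟩ := exists_germ_eq _ F p
    obtain ⟨s, rfl⟩ := exists_from_top' ρ V y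
    exact ⟨F.obj.map s.op t, germ_res _ F s _ t⟩

variable {S : Scheme.{u}} (σ : Spec (CommRingCat.of R) ⟶ S)

/-- Sections of the inverse image on the strict localisation give stalks. -/
def sectStalk (G : EtCoh.Ab S)
    (x : EtCoh.sect ((EtCoh.pull σ).obj G) (EtCoh.top (Spec (CommRingCat.of R)))) :
    ↑((EtCoh.stalk (overClosed ρ ≫ σ)).obj G) :=
  (stalkPullIso σ (overClosed ρ)).hom.app G
    (germ (overClosed ρ) ((EtCoh.pull σ).obj G) _ (overClosedTop ρ) x)

theorem bijective_sectStalk (G : EtCoh.Ab S) : Function.Bijective (sectStalk ρ σ G) :=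
  (ConcreteCategory.bijective_of_isIso ((stalkPullIso σ (overClosed ρ)).hom.app G)).comp
    (bijective_germ_top' ρ _)

theorem sectStalk_unit (G : EtCoh.Ab S) (U : S.Etale) (w : Spec (CommRingCat.of R) ⟶ U.left)
    (hw : w ≫ U.hom = (EtCoh.top (Spec (CommRingCat.of R))).hom ≫ σ)
    (φ : (Scheme.pointSmallEtale (overClosed ρ ≫ σ)).fiber.obj U)
    (hφ : φ.left = overClosed ρ ≫ w) (x : G.obj.obj (op U)) :
    sectStalk ρ σ G ((unit σ G).app (EtCoh.top (Spec (CommRingCat.of R))) U w hw x) =
      germ (overClosed ρ ≫ σ) G U φ x := by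
  have e : (Scheme.pointSmallEtale (overClosed ρ)).fiber.map
      (toBc (W := EtCoh.top (Spec (CommRingCat.of R))) w hw) (overClosedTop ρ) =
      fiberBcEquiv σ (overClosed ρ) U φ := by
    refine Over.OverMorphism.ext (pullback.hom_ext ?_ ?_)
    · refine Eq.trans ?_ (pullback.lift_fst _ _ _).symm
      rw [hφ]
      exact (Category.assoc _ _ _).trans
        (congrArg (overClosed ρ ≫ ·) (toBc_fst (W := EtCoh.top (Spec (CommRingCat.of R))) w hw))
    · refine Eq.trans ?_ (pullback.lift_snd _ _ _).symm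
      exact (Category.assoc _ _ _).trans ((congrArg (overClosed ρ ≫ ·)
        (pullback.lift_snd _ _ _)).trans (Category.comp_id _))
  show (stalkPullIso σ (overClosed ρ)).hom.app G (germ (overClosed ρ) _ _ (overClosedTop ρ)
    (((EtCoh.pull σ).obj G).obj.map (toBc w hw).op (pullSect σ G U x))) = _
  rw [germ_res, e, germ_pullSect, ← ConcreteCategory.comp_apply, Iso.inv_hom_id_app,
    ConcreteCategory.id_apply]

attribute [local instance] EtPres.cat EtPres.cofiltered EtPres.isAffine EtPres.etale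
  IsCofiltered.nonempty

variable (P : EtPres σ)

include P in
/-- Every element of the stalk is represented on a stage. -/
theorem exists_stage_germ (G : EtCoh.Ab S) (p : ↑((EtCoh.stalk (overClosed ρ ≫ σ)).obj G)) :
    ∃ (U : S.Etale) (w : Spec (CommRingCat.of R) ⟶ U.left)
      (_ : w ≫ U.hom = (EtCoh.top (Spec (CommRingCat.of R))).hom ≫ σ)
      (φ : (Scheme.pointSmallEtale (overClosed ρ ≫ σ)).fiber.obj U) (x : G.obj.obj (op U)),
      φ.left = overClosed ρ ≫ w ∧ germ (overClosed ρ ≫ σ) G U φ x = p := by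
  obtain ⟨z, rfl⟩ := (bijective_sectStalk ρ σ G).2 p
  obtain ⟨i, t, rfl⟩ := P.res_surjective G z
  let φ : (Scheme.pointSmallEtale (overClosed ρ ≫ σ)).fiber.obj (P.st i) :=
    (Over.homMk (overClosed ρ ≫ P.stπ i) ((Category.assoc _ _ _).trans
      ((congrArg (overClosed ρ ≫ ·) ((P.stπ_w i).trans (Category.id_comp _))))) :
      Over.mk (overClosed ρ ≫ σ) ⟶ (Scheme.Etale.forget S).obj (P.st i))
  exact ⟨P.st i, P.stπ i, P.stπ_w i, φ, t, rfl, (sectStalk_unit ρ σ G _ _ _ φ rfl t).symm⟩

variable {X : Scheme.{u}} (k : X ⟶ S) [QuasiCompact k] [QuasiSeparated k]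

theorem liftBc_w {U : S.Etale} (w : Spec (CommRingCat.of R) ⟶ U.left)
    (hw : w ≫ U.hom = (EtCoh.top (Spec (CommRingCat.of R))).hom ≫ σ) :
    (pullback.snd k σ ≫ w) ≫ U.hom = pullback.fst k σ ≫ k :=
  (Category.assoc _ _ _).trans ((congrArg (pullback.snd k σ ≫ ·)
    (hw.trans (Category.id_comp σ))).trans pullback.condition.symm)

/-- The map of a neighbourhood induced on the base change. -/
def liftBc {U : S.Etale} (w : Spec (CommRingCat.of R) ⟶ U.left)
    (hw : w ≫ U.hom = (EtCoh.top (Spec (CommRingCat.of R))).hom ≫ σ) :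
    (EtCoh.top (pullback k σ)).left ⟶ ((EtCoh.bc k).obj U).left :=
  pullback.lift (pullback.snd k σ ≫ w) (pullback.fst k σ) (liftBc_w σ k w hw)

theorem liftBc_hom {U : S.Etale} (w : Spec (CommRingCat.of R) ⟶ U.left)
    (hw : w ≫ U.hom = (EtCoh.top (Spec (CommRingCat.of R))).hom ≫ σ) :
    liftBc σ k w hw ≫ ((EtCoh.bc k).obj U).hom =
      (EtCoh.top (pullback k σ)).hom ≫ pullback.fst k σ :=
  (pullback.lift_snd _ _ _).trans (Category.id_comp _).symm

include P in
/-- The stalk of a direct image is the group of sections on the base change. -/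
theorem exists_stalkSect (F : EtCoh.Ab X) :
    ∃ Φ : ↑((EtCoh.stalk (overClosed ρ ≫ σ)).obj ((EtCoh.push k).obj F)) →
        EtCoh.sect ((EtCoh.pull (pullback.fst k σ)).obj F) (EtCoh.top (pullback k σ)),
      Function.Bijective Φ ∧
      ∀ (U : S.Etale) (w : Spec (CommRingCat.of R) ⟶ U.left)
        (hw : w ≫ U.hom = (EtCoh.top (Spec (CommRingCat.of R))).hom ≫ σ)
        (φ : (Scheme.pointSmallEtale (overClosed ρ ≫ σ)).fiber.obj U),
        φ.left = overClosed ρ ≫ w → ∀ t : F.obj.obj (op ((EtCoh.bc k).obj U)),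
        Φ (germ (overClosed ρ ≫ σ) ((EtCoh.push k).obj F) U φ t) =
          (unit (pullback.fst k σ) F).app (EtCoh.top (pullback k σ)) ((EtCoh.bc k).obj U)
            (liftBc σ k w hw) (liftBc_hom σ k w hw) t := by
  let E := Equiv.ofBijective _ (bijective_sectStalk ρ σ ((EtCoh.push k).obj F))
  refine ⟨fun p => (bcSec k σ).app F (E.symm p), (bijective_bcSec k P F).comp E.symm.bijective,
    fun U w hw φ hφ t => ?_⟩
  have hE : E.symm (germ (overClosed ρ ≫ σ) ((EtCoh.push k).obj F) U φ t) =
      (unit σ ((EtCoh.push k).obj F)).app (EtCoh.top (Spec (CommRingCat.of R))) U w hw t := by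
    have := sectStalk_unit ρ σ ((EtCoh.push k).obj F) U w hw φ hφ t
    rw [Equiv.symm_apply_eq]
    exact this.symm
  refine (congrArg ((bcSec k σ).app F) hE).trans ?_
  have h1 : (bcHom k σ F).hom.app (op (EtCoh.top (Spec (CommRingCat.of R))))
      ((unit σ ((EtCoh.push k).obj F)).app (EtCoh.top (Spec (CommRingCat.of R))) U w hw t) =
      (unit (pullback.fst k σ) F).app ((EtCoh.bc (pullback.snd k σ)).obj (EtCoh.top _))
        ((EtCoh.bc k).obj U) (bcLift k σ w hw) (bcLift_w k σ _ hw) t :=
    ConcreteCategory.congr_hom (congrArg (fun σ' : FHom σ ((EtCoh.push k).obj F) _ =>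
      σ'.app (EtCoh.top _) U w hw) (unit_post_desc (bcFHom k σ F))) t
  refine (congrArg (((EtCoh.pull (pullback.fst k σ)).obj F).obj.map
    (EtCore.bcTopIso (pullback.snd k σ)).inv.op) h1).trans ?_
  refine (unit (pullback.fst k σ) F).app_map_apply (EtCore.bcTopIso (pullback.snd k σ)).inv
    (bcLift k σ w hw) (bcLift_w k σ _ hw) (liftBc σ k w hw) (liftBc_hom σ k w hw)
    (pullback.hom_ext ?_ ?_) t
  · refine Eq.trans ?_ (pullback.lift_fst _ _ _).symm
    refine (Category.assoc _ _ _).trans ((congrArg (_ ≫ ·) (bcLift_fst k σ _ hw)).trans ?_)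
    refine (Category.assoc (EtCore.bcTopIso (pullback.snd k σ)).inv.left
      (bcFst (pullback.snd k σ) (EtCoh.top _)) w).symm.trans ?_
    exact congrArg (fun m : (EtCoh.top (pullback k σ)).left ⟶ (EtCoh.top _).left => m ≫ w)
      (bcTopIso_inv_fst (pullback.snd k σ))
  · refine Eq.trans ?_ (pullback.lift_snd _ _ _).symm
    refine (Category.assoc _ _ _).trans ((congrArg (_ ≫ ·) (bcLift_w k σ _ hw)).trans ?_)
    refine (Category.assoc _ _ _).symm.trans ?_
    exact (congrArg (· ≫ pullback.fst k σ)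
      (MorphismProperty.Over.w (EtCore.bcTopIso (pullback.snd k σ)).inv)).trans (Category.id_comp _)

end Groth.Agent.EtSubmersive
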