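import Groth.Agent.EtUnitConst.Basic

/-!
# The open zero locus of a section, and sections of an inverse image near a point
-/

set_option autoImplicit false

universe u

open CategoryTheory CategoryTheory.Limits AlgebraicGeometry Opposite TopologicalSpace

noncomputable section

namespace Groth.Agent.EtSubmersive

open Groth.Agent.EtaleSite Groth.Agent.EtConsAb Groth.Agent.EtUnitConst

variable {X S : Scheme.{u}}

/-- The largest open subset on which a section vanishes. -/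
def zloc (F : EtCoh.Ab X) (U : X.Etale) (δ : F.obj.obj (op U)) : U.left.Opens :=
  ⟨{u | ∃ D : U.left.Opens, u ∈ D ∧ F.obj.map (pieceHom U D).op δ = 0},
    isOpen_iff_forall_mem_open.2 fun _ ⟨D, hD, e⟩ => ⟨D, fun _ hu => ⟨D, hu, e⟩, D.isOpen, hD⟩⟩

theorem mem_zloc_iff (F : EtCoh.Ab X) {U : X.Etale} (δ : F.obj.obj (op U))
    {Ω : Type u} [Field Ω] [IsSepClosed Ω] (ξ : Spec (CommRingCat.of Ω) ⟶ X)
    (φ : (Scheme.pointSmallEtale ξ).fiber.obj U) :
    φ.left (default : Spec (CommRingCat.of Ω)) ∈ zloc F U δ ↔ germ ξ F U φ δ = 0 := by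
  constructor
  · rintro ⟨D, hD, e⟩
    obtain ⟨ψ, rfl⟩ := exists_fiber_lift (pieceHom U D) φ ⟨_, hD⟩ rfl
    rw [← germ_res, e, map_zero]
  · intro h
    obtain ⟨V, a, y, rfl, e⟩ := (germ_eq_iff ξ F U φ δ 0).1 (h.trans (map_zero _).symm)
    obtain ⟨D, hD, e'⟩ := exists_piece_eq F a δ 0 e (y.left (default : Spec (CommRingCat.of Ω)))
    exact ⟨D, hD, e'.trans (map_zero _)⟩

/-- Every point of an étale scheme lies under a point of some fibre functor. -/
theorem exists_point (U : X.Etale) (x : U.left) :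
    ∃ (Ω : Type u) (_ : Field Ω) (_ : IsSepClosed Ω) (ξ : Spec (CommRingCat.of Ω) ⟶ X)
      (φ : (Scheme.pointSmallEtale ξ).fiber.obj U), φ.left (default : Spec (CommRingCat.of Ω)) = x :=
  have ⟨φ, hφ⟩ := exists_fiber_point (geomPointAt X (U.hom x)) U x (geomPointAt_apply _ _ _).symm
  ⟨_, inferInstance, inferInstance, _, φ, hφ⟩

theorem zloc_res (F : EtCoh.Ab X) {T U : X.Etale} (e : T ⟶ U) (δ : F.obj.obj (op U)) (t : T.left) :
    t ∈ zloc F T (F.obj.map e.op δ) ↔ e.left t ∈ zloc F U δ := by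
  obtain ⟨Ω, _, _, ξ, φ, rfl⟩ := exists_point T t
  refine (mem_zloc_iff F _ ξ φ).trans (Iff.trans ?_
    (mem_zloc_iff F δ ξ ((Scheme.pointSmallEtale ξ).fiber.map e φ)).symm)
  rw [germ_res]

theorem eq_zero_of_zloc (F : EtCoh.Ab X) {U : X.Etale} (δ : F.obj.obj (op U))
    (h : ∀ x : U.left, x ∈ zloc F U δ) : δ = 0 :=
  sect_ext δ 0 fun _ _ _ ξ φ =>
    ((mem_zloc_iff F δ ξ φ).1 (h _)).trans (map_zero _).symm

variable (f : X ⟶ S)

theorem zloc_pullSect (F : EtCoh.Ab S) (W : S.Etale) (s : F.obj.obj (op W))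
    (t : ((EtCoh.bc f).obj W).left) :
    t ∈ zloc ((EtCoh.pull f).obj F) ((EtCoh.bc f).obj W) (pullSect f F W s) ↔
      (pullback.fst W.hom f : ((EtCoh.bc f).obj W).left ⟶ W.left) t ∈ zloc F W s := by
  obtain ⟨Ω, _, _, ζ, ψ, rfl⟩ := exists_point ((EtCoh.bc f).obj W) t
  obtain ⟨φ, rfl⟩ := (fiberBcEquiv f ζ W).surjective ψ
  have e : (pullback.fst W.hom f : ((EtCoh.bc f).obj W).left ⟶ W.left)
      ((fiberBcEquiv f ζ W φ).left (default : Spec (CommRingCat.of _))) = φ.left (default : Spec (CommRingCat.of _)) :=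
    congrArg (fun k : Spec (CommRingCat.of _) ⟶ W.left => k default)
      (pullback.lift_fst φ.left ζ (Over.w φ))
  refine (mem_zloc_iff _ _ ζ (fiberBcEquiv f ζ W φ)).trans (Iff.trans ?_
    ((mem_zloc_iff F s (ζ ≫ f) φ).symm.trans (Iff.of_eq (congrArg (· ∈ zloc F W s) e.symm))))
  rw [germ_pullSect]
  exact map_eq_zero_iff _ (ConcreteCategory.bijective_of_isIso ((stalkPullIso f ζ).inv.app F)).1

/-- Near every point, a section of an inverse image comes from an étale neighbourhood below. -/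
theorem exists_pullSect_nhd (F : EtCoh.Ab S) (V : S.Etale)
    (δ : ((EtCoh.pull f).obj F).obj.obj (op ((EtCoh.bc f).obj V))) (z : ((EtCoh.bc f).obj V).left) :
    ∃ (W : S.Etale) (e : W ⟶ V) (s : F.obj.obj (op W)) (D : ((EtCoh.bc f).obj W).left.Opens)
      (d : ((EtCoh.bc f).obj W).left), d ∈ D ∧ ((EtCoh.bc f).map e).left d = z ∧
      ((EtCoh.pull f).obj F).obj.map (pieceHom _ D).op (pullSect f F W s) =
        ((EtCoh.pull f).obj F).obj.map (pieceHom _ D).op
          (((EtCoh.pull f).obj F).obj.map ((EtCoh.bc f).map e).op δ) := by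
  let G := (EtCoh.pull f).obj F
  obtain ⟨Ω, _, _, ζ, ψ, rfl⟩ := exists_point ((EtCoh.bc f).obj V) z
  obtain ⟨φ₀, rfl⟩ := (fiberBcEquiv f ζ V).surjective ψ
  obtain ⟨p, hp⟩ := (ConcreteCategory.bijective_of_isIso ((stalkPullIso f ζ).inv.app F)).2
    (germ ζ G _ (fiberBcEquiv f ζ V φ₀) δ)
  obtain ⟨W, e, w, s, hw, hs⟩ := exists_germ_eq_refine φ₀ F p
  have hmap : (Scheme.pointSmallEtale ζ).fiber.map ((EtCoh.bc f).map e) (fiberBcEquiv f ζ W w) =
      fiberBcEquiv f ζ V φ₀ := by rw [fiberBc_map, hw]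
  have hgerm : germ ζ G _ (fiberBcEquiv f ζ W w) (pullSect f F W s) =
      germ ζ G _ (fiberBcEquiv f ζ W w) (G.obj.map ((EtCoh.bc f).map e).op δ) := by
    rw [germ_pullSect, hs, hp, germ_res, hmap]
  obtain ⟨V', h, y, hy, he⟩ := (germ_eq_iff ζ G _ _ _ _).1 hgerm
  obtain ⟨D, hD, e'⟩ := exists_piece_eq G h _ _ he (y.left (default : Spec (CommRingCat.of _)))
  exact ⟨W, e, s, D, _, hD,
    (congrArg (fun k => ((EtCoh.bc f).map e).left (k.left (default : Spec (CommRingCat.of Ω)))) hy).trans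
      (congrArg (fun k => k.left (default : Spec (CommRingCat.of Ω))) hmap), e'⟩

/-- The zero locus of a section of an inverse image is locally the preimage of an open below. -/
theorem exists_zloc_local (F : EtCoh.Ab S) (V : S.Etale)
    (δ : ((EtCoh.pull f).obj F).obj.obj (op ((EtCoh.bc f).obj V))) (z : ((EtCoh.bc f).obj V).left) :
    ∃ (W : S.Etale) (e : W ⟶ V) (O : W.left.Opens) (D : ((EtCoh.bc f).obj W).left.Opens)
      (d : ((EtCoh.bc f).obj W).left), d ∈ D ∧ ((EtCoh.bc f).map e).left d = z ∧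
      ∀ x ∈ D, ((EtCoh.bc f).map e).left x ∈ zloc ((EtCoh.pull f).obj F) _ δ ↔
        (pullback.fst W.hom f : ((EtCoh.bc f).obj W).left ⟶ W.left) x ∈ O := by
  obtain ⟨W, e, s, D, d, hd, hz, he⟩ := exists_pullSect_nhd f F V δ z
  refine ⟨W, e, zloc F W s, D, d, hd, hz, fun x hx => ?_⟩
  rw [← zloc_pullSect f F W s x, ← zloc_res]
  have h₁ := zloc_res ((EtCoh.pull f).obj F) (pieceHom _ D) (pullSect f F W s) ⟨x, hx⟩
  have h₂ := zloc_res ((EtCoh.pull f).obj F) (pieceHom _ D)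
    (((EtCoh.pull f).obj F).obj.map ((EtCoh.bc f).map e).op δ) ⟨x, hx⟩
  rw [he] at h₁
  exact h₂.symm.trans h₁

end Groth.Agent.EtSubmersive
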